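import Mathlib
import Groth.Agent.Lib.Helper5.NefC.Seq1
import Groth.Agent.Lib.Helper5.NumRS.Cart
import Groth.Agent.Lib.Helper5.NegCfg.Core
import Groth.Agent.Lib.Lead.CohLES.Euler
import Groth.Agent.Lib.Lead.CohLES.PushEquiv
import Groth.Agent.Lib.Lead.QC.ProjFormula
import Groth.Agent.Lib.Lead.QC.IdealMul
import Groth.Agent.Lib.Helper1.SmoothDepth

/-!
# Peeling a curve of negative degree off the sections of an invertible module
(helper5; S16562, S16563)

* `subsingleton_H0_of_deg_neg`: no sections in negative degree on an integral proper curve;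
* `nonempty_peelEquiv`: `H⁰(X, M ⊗ I_E) ≃ H⁰(X, M)` if `(M · E) < 0`, `E` an integral curve;
* `no_sections`, `finrank_pow`: the two applications to `(-1)`-curves.
-/

set_option autoImplicit false
universe u
open CategoryTheory CategoryTheory.Limits AlgebraicGeometry TopologicalSpace Opposite

namespace Groth.Agent.H5.PlaneBl

open Groth.Agent.LD Groth.Agent.LD.QC Groth.Agent.H5.Curve2 Groth.Agent.H5.Curve4
  Groth.Agent.H5.Curve6 Groth.Agent.H5.DegC Groth.Agent.H5.Snap Groth.Agent.H5.NegCfg
  Groth.Agent.H5.IntN Groth.Agent.H5.Hyper Groth.Agent.LD.RRS.Kit Groth.Agent.H5.NefC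

variable (k : Type u) [Field k]

/-- an invertible module of negative degree on an integral proper curve has no sections. -/
theorem subsingleton_H0_of_deg_neg (Z : Scheme.{u}) [Z.Over (Spec (CommRingCat.of k))]
    [IsProper (Z ↘ Spec (CommRingCat.of k))] [IsIntegral Z] (hdim : topologicalKrullDim Z ≤ 1)
    (N : Z.Modules) (hN : PicF.IsInvertible N) (hdeg : Curv2.deg k Z N 1 < 0) :
    Subsingleton (Coh.HH Z N 0) := by
  by_contra hne
  rw [not_subsingleton_iff_nontrivial] at hne
  obtain ⟨σ, hσ⟩ := exists_ne_zero_of_nontrivial_HH N hne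
  have h1 := (Curve.deg_le_of_ne_zero k Z hdim (isInvertible_unit Z) hN σ hσ).1
  have h2 : Curv2.deg k Z (unitMod Z) 1 = 0 := Curve.deg_structureModule k Z
  rw [h2] at h1
  omega

variable {X : Scheme.{u}} [X.Over (Spec (CommRingCat.of k))]
  [IsProper (X ↘ Spec (CommRingCat.of k))]

/-- `H⁰(X, O_E ⊗ M) = 0` if `(M · E) < 0`. -/
theorem subsingleton_H0_quot (E : X.IdealSheafData) [IsIntegral E.subscheme]
    (hdim : topologicalKrullDim (E.support : Set X) ≤ 1) (M : X.Modules)
    (hM : PicF.IsInvertible M) (hneg : dG k E M < 0) :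
    Subsingleton (Coh.HH X (CohB1.tensorMod (ClSub.quotMod E) M) 0) := by
  letI : E.subscheme.Over (Spec (CommRingCat.of k)) := overOf k E.subschemeι
  haveI : IsProper (E.subscheme ↘ Spec (CommRingCat.of k)) := by
    change IsProper (E.subschemeι ≫ (X ↘ Spec (CommRingCat.of k)))
    infer_instance
  have hd : topologicalKrullDim E.subscheme ≤ 1 := by rw [DegC.dim_subscheme_eq]; exact hdim
  have hG' : PicF.IsInvertible ((Scheme.Modules.pullback E.subschemeι).obj M) :=
    isInvertible_pullback E.subschemeι hM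
  have hdeg : Curv2.deg k E.subscheme ((Scheme.Modules.pullback E.subschemeι).obj M) 1 < 0 := by
    rw [← dG_eq_deg k E M hM]; exact hneg
  have h0 := subsingleton_H0_of_deg_neg k E.subscheme hd _ hG' hdeg
  haveI : ((Scheme.Modules.pullback E.subschemeι).obj M).IsQuasicoherent :=
    qc_of_isInvertible _ hG'
  let θ : CohB1.tensorMod (ClSub.quotMod E) M ≅
      (Scheme.Modules.pushforward E.subschemeι).obj
        ((Scheme.Modules.pullback E.subschemeι).obj M) :=
    projIso E.subschemeι (Coh.structureModule E.subscheme) M hM ≪≫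
      (Scheme.Modules.pushforward E.subschemeι).mapIso (unitorL _)
  have h1 : Subsingleton (Coh.HH X ((Scheme.Modules.pushforward E.subschemeι).obj
      ((Scheme.Modules.pullback E.subschemeι).obj M)) 0) :=
    (CL.subsingleton_HH_push_iff E.subschemeι _ 0).mpr h0
  exact (CL.HHisoEquiv k θ 0).toEquiv.subsingleton

/-- **peeling**: `H⁰(X, M ⊗ I_E) ≃ H⁰(X, M)` if `(M · E) < 0`. -/
theorem nonempty_peelEquiv (E : X.IdealSheafData) [IsIntegral E.subscheme]
    (hdim : topologicalKrullDim (E.support : Set X) ≤ 1) (M : X.Modules)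
    (hM : PicF.IsInvertible M) (hneg : dG k E M < 0) :
    Nonempty (Coh.HH X (CohB1.tensorMod M (ClSub.idealMod E)) 0 ≃ₗ[k] Coh.HH X M 0) := by
  have hS := shortExact_idealMod E
  haveI : PreservesFiniteLimits (LT M) :=
    preservesFiniteLimits_LT M (Curve.isFinLocFree_of_rank ((isInvertible_iff M).mp hM))
  have hS' := hS.map_of_exact (LT M)
  have h3 : Subsingleton (Coh.HH X (CohB1.tensorMod M (ClSub.quotMod E)) 0) := by
    haveI := subsingleton_H0_quot k E hdim M hM hneg
    exact (CL.HHisoEquiv k (tensorCommAll (ClSub.quotMod E) M) 0).symm.toEquiv.subsingleton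
  have hinj := CL.HHmap_f_injective k hS'
  have hsurj : Function.Surjective (CL.HHmap k ((ShortComplex.mk (ClSub.idealModι E)
      (ClSub.toSubscheme E) (kernel.condition (ClSub.toSubscheme E))).map (LT M)).f 0) := by
    intro x
    exact CL.exact₂ hS' k 0 x (h3.elim _ _)
  exact ⟨(LinearEquiv.ofBijective _ ⟨hinj, hsurj⟩).trans
    (CL.HHisoEquiv k (SecTwist.unitorR M) 0)⟩

end Groth.Agent.H5.PlaneBl
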