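import Mathlib
import Groth.Agent.Lib.Helper5.PlaneBl.Peel

/-!
# `(-1)`-curves and sections of invertible modules on a regular surface (helper5; S16562, S16563)
-/

set_option autoImplicit false
universe u
open CategoryTheory CategoryTheory.Limits AlgebraicGeometry TopologicalSpace Opposite

namespace Groth.Agent.H5.PlaneBl

open Groth.Agent.LD Groth.Agent.LD.QC Groth.Agent.H5.Curve2 Groth.Agent.H5.Curve4
  Groth.Agent.H5.Curve6 Groth.Agent.H5.DegC Groth.Agent.H5.Snap Groth.Agent.H5.NegCfg
  Groth.Agent.H5.IntN Groth.Agent.H5.Hyper Groth.Agent.LD.RRS.Kit Groth.Agent.H5.NefC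

variable (k : Type u) [Field k] {X : Scheme.{u}} [X.Over (Spec (CommRingCat.of k))]
  [IsProper (X ↘ Spec (CommRingCat.of k))]

/-- `(I_E · E) = - E²`. -/
theorem dG_idealMod_self [IsIntegral X] (hdim : topologicalKrullDim X = 2)
    (E : X.IdealSheafData) (hEc : BlowUp.IsEffCartierIdeal E)
    (hIinv : PicF.IsInvertible (ClSub.idealMod E))
    (hE1 : topologicalKrullDim (E.support : Set X) ≤ 1) :
    dG k E (ClSub.idealMod E) =
      - FGA.intNum k X 2 ![ClSub.idealMod E, ClSub.idealMod E] (Coh.structureModule X) :=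
  euler_quotMod_sub_eq_neg_intNum k X hdim (ClSub.idealMod E) hIinv E hEc hE1

/-- **S16562**, abstract form: on a regular integral proper surface, if `E` is an integral curve
with `E² = -1`, `(L · E) < -1` and `2 (H · E) > (L · H)` for a nef `H`, then `H⁰(L) = 0`. -/
theorem no_sections [IsIntegral X] (hdim : topologicalKrullDim X = 2)
    (hreg : ∀ x : X, IsRegularLocalRing (X.presheaf.stalk x))
    (H : X.Modules) (hH : PicF.IsInvertible H) (hnef : NefMod k X H)
    (L : X.Modules) (hL : PicF.IsInvertible L)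
    (E : X.IdealSheafData) (hEi : IsIntegral E.subscheme)
    (hE1 : topologicalKrullDim (E.support : Set X) = 1)
    (hEE : FGA.intNum k X 2 ![ClSub.idealMod E, ClSub.idealMod E] (Coh.structureModule X) = -1)
    (hEH : FGA.intNum k X 2 ![L, H] (Coh.structureModule X) < 2 * dG k E H)
    (hLE : dG k E L < -1) : Subsingleton (Coh.HH X L 0) := by
  obtain ⟨hEc, hIinv⟩ := Groth.Agent.H5.NumRS.isInvertible_idealMod_of_curve k X hdim hreg E hEi hE1
  have hd : topologicalKrullDim X ≤ ((2 : ℕ) : WithBot ℕ∞) := le_of_eq hdim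
  have hE1' : topologicalKrullDim (E.support : Set X) ≤ 1 := hE1.le
  have hI1 : dG k E (ClSub.idealMod E) = 1 := by
    rw [dG_idealMod_self k hdim E hEc hIinv hE1', hEE]; norm_num
  by_contra hne
  rw [not_subsingleton_iff_nontrivial] at hne
  have hM₁ : PicF.IsInvertible (CohB1.tensorMod L (ClSub.idealMod E)) :=
    isInvertible_tensorMod hL hIinv
  have hM₂ : PicF.IsInvertible
      (CohB1.tensorMod (CohB1.tensorMod L (ClSub.idealMod E)) (ClSub.idealMod E)) :=
    isInvertible_tensorMod hM₁ hIinv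
  have hd1 : dG k E (CohB1.tensorMod L (ClSub.idealMod E)) = dG k E L + 1 := by
    rw [dG_tensor k E hE1' hL hIinv, hI1]
  obtain ⟨e₁⟩ := nonempty_peelEquiv k E hE1' L hL (by linarith)
  obtain ⟨e₂⟩ := nonempty_peelEquiv k E hE1' _ hM₁ (by rw [hd1]; linarith)
  have hnt : Nontrivial (Coh.HH X
      (CohB1.tensorMod (CohB1.tensorMod L (ClSub.idealMod E)) (ClSub.idealMod E)) 0) :=
    (e₂.trans e₁).toEquiv.nontrivial
  have h0 := intNum_nonneg_of_section_of_nef k hdim _ H hM₂ hH hnef hnt
  rw [intNum_tensor_left k hd _ _ H hM₁ hIinv hH,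
    intNum_tensor_left k hd _ _ H hL hIinv hH] at h0
  have hIH : FGA.intNum k X 2 ![ClSub.idealMod E, H] (Coh.structureModule X) = - dG k E H := by
    have h := euler_quotMod_sub_eq_neg_intNum k X hdim H hH E hEc hE1'
    rw [intNum_comm k _ H hIinv hH]
    unfold dG
    linarith
  linarith

/-- **S16563**, abstract form: if `(L · E) = -s` with `s ≥ 1` and `E² = -1`, then
`h⁰(L ⊗ I_E^s) = h⁰(L)`. -/
theorem finrank_pow [IsIntegral X] (hdim : topologicalKrullDim X = 2)
    (hreg : ∀ x : X, IsRegularLocalRing (X.presheaf.stalk x))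
    (L : X.Modules) (hL : PicF.IsInvertible L)
    (E : X.IdealSheafData) (hEi : IsIntegral E.subscheme)
    (hE1 : topologicalKrullDim (E.support : Set X) = 1)
    (hEE : FGA.intNum k X 2 ![ClSub.idealMod E, ClSub.idealMod E] (Coh.structureModule X) = -1)
    (s : ℕ) (hs : 1 ≤ s) (hLE : dG k E L = -(s : ℤ)) :
    Module.finrank k (Coh.HH X (CohB1.tensorMod L (ClSub.idealMod (E ^ s))) 0) =
      Module.finrank k (Coh.HH X L 0) := by
  obtain ⟨hEc, hIinv⟩ := Groth.Agent.H5.NumRS.isInvertible_idealMod_of_curve k X hdim hreg E hEi hE1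
  have hE1' : topologicalKrullDim (E.support : Set X) ≤ 1 := hE1.le
  have hI1 : dG k E (ClSub.idealMod E) = 1 := by
    rw [dG_idealMod_self k hdim E hEc hIinv hE1', hEE]; norm_num
  haveI : L.IsQuasicoherent := qc_of_isInvertible L hL
  haveI : (ClSub.idealMod E).IsQuasicoherent := qc_of_isInvertible _ hIinv
  have key : ∀ j : ℕ, j ≤ s →
      Module.finrank k (Coh.HH X (CohB1.tensorMod L (CohB1.tensorPow (ClSub.idealMod E) j)) 0) =
        Module.finrank k (Coh.HH X L 0) := by
    intro j
    induction j with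
    | zero =>
      intro _
      exact (CL.HHisoEquiv k (SecTwist.unitorR L) 0).finrank_eq
    | succ j ih =>
      intro hj
      have hPj : PicF.IsInvertible (CohB1.tensorPow (ClSub.idealMod E) j) :=
        isInvertible_tensorPow hIinv j
      haveI : (CohB1.tensorPow (ClSub.idealMod E) j).IsQuasicoherent := qc_of_isInvertible _ hPj
      have hMj : PicF.IsInvertible (CohB1.tensorMod L (CohB1.tensorPow (ClSub.idealMod E) j)) :=
        isInvertible_tensorMod hL hPj
      have hdj : dG k E (CohB1.tensorMod L (CohB1.tensorPow (ClSub.idealMod E) j)) =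
          -(s : ℤ) + j := by
        rw [dG_tensor k E hE1' hL hPj, dG_tensorPow k E hE1' hIinv j, hI1, hLE]
        ring
      obtain ⟨e⟩ := nonempty_peelEquiv k E hE1' _ hMj (by rw [hdj]; omega)
      have ea : CohB1.tensorMod L (CohB1.tensorPow (ClSub.idealMod E) (j + 1)) ≅
          CohB1.tensorMod (CohB1.tensorMod L (CohB1.tensorPow (ClSub.idealMod E) j))
            (ClSub.idealMod E) :=
        (tensorAssoc L (CohB1.tensorPow (ClSub.idealMod E) j) (ClSub.idealMod E)).symm
      rw [(CL.HHisoEquiv k ea 0).finrank_eq, e.finrank_eq]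
      exact ih (by omega)
  obtain ⟨m, rfl⟩ : ∃ m, s = m + 1 := ⟨s - 1, by omega⟩
  obtain ⟨φ⟩ := nonempty_tensorPow_iso_idealMod_pow E hIinv m
  have h : Module.finrank k (Coh.HH X (CohB1.tensorMod L (ClSub.idealMod (E ^ (m + 1)))) 0) =
      Module.finrank k
        (Coh.HH X (CohB1.tensorMod L (CohB1.tensorPow (ClSub.idealMod E) (m + 1))) 0) :=
    (CL.HHisoEquiv k ((LT L).mapIso φ) 0).symm.finrank_eq
  rw [h]
  exact key (m + 1) le_rfl

end Groth.Agent.H5.PlaneBl
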