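import Mathlib
import Groth.Agent.Lib.Helper5.PlaneBl.App
import Groth.Agent.Lib.Helper5.Snap.Integral
import Groth.Agent.Lib.Helper5.Curve3.SmInt
import Groth.Agent.Lib.Helper5.IntN.Basic

/-!
# Curves of self-intersection `≤ -2` and non-speciality (helper5; S16564)
-/

set_option autoImplicit false
universe u
open CategoryTheory CategoryTheory.Limits AlgebraicGeometry TopologicalSpace Opposite

namespace Groth.Agent.H5.PlaneBl

open Groth.Agent.LD Groth.Agent.LD.QC Groth.Agent.H5.Curve2 Groth.Agent.H5.Curve4
  Groth.Agent.H5.Curve6 Groth.Agent.H5.DegC Groth.Agent.H5.Snap Groth.Agent.H5.NegCfg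
  Groth.Agent.H5.IntN Groth.Agent.H5.Hyper Groth.Agent.LD.RRS.Kit Groth.Agent.H5.NefC
  Groth.Agent.H5.Deg

section Top

variable {X : Scheme.{u}}

/-- two integral closed subschemes of dimension one, one of whose supports contains the other,
are equal. -/
theorem eq_of_support_subset (E C : X.IdealSheafData) [IsIntegral E.subscheme]
    [IsIntegral C.subscheme] (hE1 : topologicalKrullDim (E.support : Set X) = 1)
    (hC1 : topologicalKrullDim (C.support : Set X) = 1)
    (h : (E.support : Set X) ⊆ (C.support : Set X)) : E = C := by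
  have hsupp : (E.support : Set X) = (C.support : Set X) := by
    by_contra hne
    have hirr : IsIrreducible (C.support : Set X) := by
      rw [support_eq_closure_of_isIntegral C]
      exact isIrreducible_singleton.closure
    have h1 := dimX_add_one_le hirr C.support.isClosed h hne
    rw [← topologicalKrullDim_eq_dimX E.support.isClosed,
      ← topologicalKrullDim_eq_dimX C.support.isClosed, hE1, hC1] at h1
    exact absurd h1 (by decide)
  have hs : E.support = C.support := Closeds.ext hsupp
  rw [← radical_eq_of_isReduced E, ← radical_eq_of_isReduced C,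
    ← Scheme.IdealSheafData.vanishingIdeal_support, ← Scheme.IdealSheafData.vanishingIdeal_support,
    hs]

end Top

variable (k : Type u) [Field k] {X : Scheme.{u}} [X.Over (Spec (CommRingCat.of k))]
  [IsProper (X ↘ Spec (CommRingCat.of k))]

/-- the Euler characteristic of the structure sheaf of an integral curve is at most one. -/
theorem euler_quotMod_le_one [IsAlgClosed k] (C : X.IdealSheafData) [IsIntegral C.subscheme]
    (hC1 : topologicalKrullDim (C.support : Set X) ≤ 1) :
    Curv2.euler k X (ClSub.quotMod C) ≤ 1 := by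
  letI : C.subscheme.Over (Spec (CommRingCat.of k)) := overOf k C.subschemeι
  haveI : IsProper (C.subscheme ↘ Spec (CommRingCat.of k)) := by
    change IsProper (C.subschemeι ≫ (X ↘ Spec (CommRingCat.of k)))
    infer_instance
  have hd : topologicalKrullDim C.subscheme ≤ 1 := by rw [DegC.dim_subscheme_eq]; exact hC1
  have h1 : Curv2.euler k X (ClSub.quotMod C) =
      Curv2.euler k C.subscheme (Coh.structureModule C.subscheme) :=
    euler_push k C.subschemeι (Coh.structureModule C.subscheme)
  have hOc : Coh.IsCoh (unitMod C.subscheme) :=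
    Curve2.isCoh_of_isInvertible (isInvertible_unit C.subscheme)
  haveI : (Coh.structureModule C.subscheme).IsQuasicoherent := hOc.1
  have h2 := Curve.euler_eq_sub k C.subscheme hd (Coh.structureModule C.subscheme)
  have h3 := Groth.Agent.H5.Curve3.finrank_HH0_eq_one_of_isAlgClosed k C.subscheme
  rw [h1, h2, h3]
  have : (0 : ℤ) ≤ (Module.finrank k (Coh.HH C.subscheme (Coh.structureModule C.subscheme) 1) : ℤ) :=
    Int.natCast_nonneg _
  push_cast
  linarith

/-- at most one of `H⁰, H¹, H²` is nonzero. -/
def NonSpecial (M : X.Modules) : Prop :=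
  (Subsingleton (Coh.HH X M 0) ∧ Subsingleton (Coh.HH X M 1)) ∨
    (Subsingleton (Coh.HH X M 0) ∧ Subsingleton (Coh.HH X M 2)) ∨
      (Subsingleton (Coh.HH X M 1) ∧ Subsingleton (Coh.HH X M 2))

/-- `χ = h⁰` for a non-special module with sections on a surface. -/
theorem euler_eq_h0_of_nonSpecial (hd : topologicalKrullDim X ≤ ((2 : ℕ) : WithBot ℕ∞))
    (M : X.Modules) (hMc : Coh.IsCoh M)
    (hns : NonSpecial M) (h0 : Nontrivial (Coh.HH X M 0)) :
    Curv2.euler k X M = (Module.finrank k (Coh.HH X M 0) : ℤ) := by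
  have hnot : ¬ Subsingleton (Coh.HH X M 0) := not_subsingleton _
  rcases hns with ⟨h, -⟩ | ⟨h, -⟩ | ⟨h1, h2⟩
  · exact absurd h hnot
  · exact absurd h hnot
  · rw [← eulerCharLE_eq_euler k 2 hd M hMc, eulerCharLE_two k M,
      Module.finrank_zero_of_subsingleton (M := Coh.HH X M 1),
      Module.finrank_zero_of_subsingleton (M := Coh.HH X M 2)]
    simp

set_option maxHeartbeats 800000 in
/-- **S16564**, abstract form. -/
theorem selfInter_ge_neg_one [IsAlgClosed k] [IsIntegral X] (hdim : topologicalKrullDim X = 2)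
    (hreg : ∀ x : X, IsRegularLocalRing (X.presheaf.stalk x))
    (hconj : ∀ (M : X.Modules), PicF.IsInvertible M →
      (∀ (E : X.IdealSheafData), IsIntegral E.subscheme →
        topologicalKrullDim (E.support : Set X) = 1 →
        Subsingleton (Coh.HH E.subscheme (Coh.structureModule E.subscheme) 1) →
        FGA.intNum k X 2 ![ClSub.idealMod E, ClSub.idealMod E] (Coh.structureModule X) = -1 →
        -1 ≤ dG k E M) → NonSpecial M)
    (C : X.IdealSheafData) (hCi : IsIntegral C.subscheme)
    (hC1 : topologicalKrullDim (C.support : Set X) = 1) :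
    -1 ≤ FGA.intNum k X 2 ![ClSub.idealMod C, ClSub.idealMod C] (Coh.structureModule X) := by
  by_contra hlt
  rw [not_le] at hlt
  haveI := hCi
  obtain ⟨hCc, hIinv⟩ := Groth.Agent.H5.NumRS.isInvertible_idealMod_of_curve k X hdim hreg C hCi hC1
  obtain ⟨M, hM, ⟨eM⟩⟩ := Groth.Agent.H5.Glue.exists_inverse (ClSub.idealMod C) hIinv
  have hd : topologicalKrullDim X ≤ ((2 : ℕ) : WithBot ℕ∞) := le_of_eq hdim
  have hC1' : topologicalKrullDim (C.support : Set X) ≤ 1 := hC1.le
  have hOc : Coh.IsCoh (unitMod X) := Curve2.isCoh_of_isInvertible (isInvertible_unit X)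
  have hMc : Coh.IsCoh M := Curve2.isCoh_of_isInvertible hM
  -- the structure sheaf is non-special, so `χ(O) = 1`
  have hO0 : Module.finrank k (Coh.HH X (unitMod X) 0) = 1 :=
    Groth.Agent.H5.Curve3.finrank_HH0_eq_one_of_isAlgClosed k X
  have hOnt : Nontrivial (Coh.HH X (unitMod X) 0) :=
    Module.nontrivial_of_finrank_pos (R := k) (by rw [hO0]; exact Nat.one_pos)
  have hOns : NonSpecial (unitMod X) := hconj _ (isInvertible_unit X) (fun E _ _ _ _ => by
    rw [dG_unit]; norm_num)
  have hχO : Curv2.euler k X (unitMod X) = 1 := by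
    rw [euler_eq_h0_of_nonSpecial k hd _ hOc hOns hOnt, hO0]; rfl
  -- degrees on `C`
  have hdI : dG k C (ClSub.idealMod C) =
      - FGA.intNum k X 2 ![ClSub.idealMod C, ClSub.idealMod C] (Coh.structureModule X) :=
    dG_idealMod_self k hdim C hCc hIinv hC1'
  have hdM : ∀ (E : X.IdealSheafData), topologicalKrullDim (E.support : Set X) ≤ 1 →
      dG k E M = - dG k E (ClSub.idealMod C) := by
    intro E hE
    have h1 := dG_tensor k E hE hIinv hM
    rw [dG_iso k E eM, dG_unit] at h1
    linarith
  have hdMC : dG k C M < 0 := by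
    rw [hdM C hC1', hdI]; linarith
  -- `M` is non-special
  have hMns : NonSpecial M := by
    apply hconj M hM
    intro E hEi hE1 _ hEE
    haveI := hEi
    rw [hdM E hE1.le]
    by_cases hsub : (E.support : Set X) ⊆ (C.support : Set X)
    · exfalso
      have hEC := eq_of_support_subset E C hE1 hC1 hsub
      rw [hEC] at hEE
      rw [hEE] at hlt
      exact absurd hlt (by decide)
    · have := dG_idealMod_nonpos k E hE1.le C hCc hsub
      linarith
  -- sections of `M`
  obtain ⟨e⟩ := nonempty_peelEquiv k C hC1' M hM hdMC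
  have e' : Coh.HH X M 0 ≃ₗ[k] Coh.HH X (unitMod X) 0 :=
    e.symm.trans (CL.HHisoEquiv k (tensorCommAll M (ClSub.idealMod C) ≪≫ eM) 0)
  have hM0 : Module.finrank k (Coh.HH X M 0) = 1 := by rw [e'.finrank_eq, hO0]
  have hMnt : Nontrivial (Coh.HH X M 0) := e'.toEquiv.nontrivial
  have hχM : Curv2.euler k X M = 1 := by
    rw [euler_eq_h0_of_nonSpecial k hd _ hMc hMns hMnt, hM0]; rfl
  -- additivity
  have hS := shortExact_idealMod C
  haveI : PreservesFiniteLimits (LT M) :=
    preservesFiniteLimits_LT M (Curve.isFinLocFree_of_rank ((isInvertible_iff M).mp hM))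
  have hS' := hS.map_of_exact (LT M)
  have hQc : Coh.IsCoh (ClSub.quotMod C) := isCoh_quotMod C
  have hIc : Coh.IsCoh (ClSub.idealMod C) := Curve2.isCoh_of_isInvertible hIinv
  have hadd := Curve.euler_add k X _ hS' (isCoh_tensorMod' hMc hIc) (isCoh_tensorMod' hMc hOc)
    (isCoh_tensorMod' hMc hQc)
  change Curv2.euler k X (CohB1.tensorMod M (unitMod X)) =
    Curv2.euler k X (CohB1.tensorMod M (ClSub.idealMod C)) +
      Curv2.euler k X (CohB1.tensorMod M (ClSub.quotMod C)) at hadd
  rw [Curve.euler_iso k X (SecTwist.unitorR M),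
    Curve.euler_iso k X (tensorCommAll M (ClSub.idealMod C) ≪≫ eM),
    Curve.euler_iso k X (tensorCommAll M (ClSub.quotMod C)), hχM, hχO] at hadd
  have hdef : dG k C M = Curv2.euler k X (CohB1.tensorMod (ClSub.quotMod C) M) -
      Curv2.euler k X (ClSub.quotMod C) := rfl
  have hle := euler_quotMod_le_one k C hC1'
  rw [hdM C hC1', hdI] at hdef
  linarith

end Groth.Agent.H5.PlaneBl
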